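import Cfsg.Agent.Leech.Code
import Cfsg.Agent.J4Type.OctadFixTrans
import Cfsg.Agent.SporadicStructure.DodecadM12

/-!
# Code words with a prescribed intersection; transitivity of `M24`
-/

set_option autoImplicit false

namespace Cfsg.Agent.H995.Co1F

open Cfsg Cfsg.Agent.Leech.Code
open scoped Pointwise

theorem sum_ind (s t : Finset GolayPt) : ∑ i, ind s i * ind t i = ((s ∩ t).card : ZMod 2) := by
  have h : ∀ i, ind s i * ind t i = if i ∈ s ∩ t then (1 : ZMod 2) else 0 := by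
    intro i
    rw [ind_apply, ind_apply]
    by_cases h1 : i ∈ s <;> by_cases h2 : i ∈ t <;> simp [h1, h2]
  rw [Finset.sum_congr rfl fun i _ => h i, Finset.sum_ite_mem, Finset.univ_inter, Finset.sum_const]
  simp

/-- **Duality**: a subset `s` of `X` which meets all the words inside `X` evenly is the intersection of `X` with
a word. -/
theorem exists_inter {X s : Finset GolayPt} (hs : s ⊆ X) (h : ∀ d ∈ Words, d ⊆ X → Even (s ∩ d).card) :
    ∃ c ∈ Words, c ∩ X = s := by
  let Z : Submodule (ZMod 2) (GolayPt → ZMod 2) :=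
    { carrier := {f | ∀ i ∈ X, f i = 0}
      zero_mem' := fun i _ => rfl
      add_mem' := fun {f g} hf hg i hi => by rw [Pi.add_apply, hf i hi, hg i hi, add_zero]
      smul_mem' := fun c f hf i hi => by rw [Pi.smul_apply, hf i hi, smul_zero] }
  by_cases hmem : ind s ∈ golayCode ⊔ Z
  · obtain ⟨c, hc, f, hf, hcf⟩ := Submodule.mem_sup.1 hmem
    refine ⟨support₂ c, support₂_mem hc, ?_⟩
    ext i
    rw [Finset.mem_inter, mem_support₂]
    constructor
    · rintro ⟨h1, h2⟩
      have h3 := congrFun hcf i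
      rw [Pi.add_apply, hf i h2, add_zero, ind_apply] at h3
      by_contra h4
      rw [if_neg h4] at h3
      exact h1 h3
    · intro h1
      have h2 := hs h1
      have h3 := congrFun hcf i
      rw [Pi.add_apply, hf i h2, add_zero, ind_apply, if_pos h1] at h3
      exact ⟨by rw [h3]; decide, h2⟩
  · exfalso
    obtain ⟨φ, hφ, hle⟩ := Submodule.exists_le_ker_of_notMem hmem
    set y : GolayPt → ZMod 2 := fun i => φ (Pi.single i 1) with hy
    have hφ' : ∀ w, φ w = ∑ i, w i * y i := by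
      intro w
      have h1 : w = ∑ i, w i • (Pi.single i (1 : ZMod 2) : GolayPt → ZMod 2) := by
        funext k
        rw [Finset.sum_apply, Finset.sum_eq_single k]
        · simp
        · intro j _ hj
          rw [Pi.smul_apply, Pi.single_eq_of_ne (Ne.symm hj), smul_zero]
        · intro h; exact absurd (Finset.mem_univ k) h
      conv_lhs => rw [h1]
      rw [map_sum]
      exact Finset.sum_congr rfl fun i _ => by rw [map_smul, smul_eq_mul]
    have hyX : ∀ i, i ∉ X → y i = 0 := by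
      intro i hi
      have h1 : (Pi.single i (1 : ZMod 2) : GolayPt → ZMod 2) ∈ Z := by
        intro j hj
        rw [Pi.single_eq_of_ne]
        rintro rfl
        exact hi hj
      exact hle (Submodule.mem_sup_right h1)
    set Y : Finset GolayPt := support₂ y with hYdef
    have hYi : ind Y = y := ind_support₂ y
    have hYW : Y ∈ Words := by
      refine mem_of_even_inter fun d hd => ?_
      have h1 : φ (ind d) = 0 := hle (Submodule.mem_sup_left ((mem_words_iff d).1 hd))
      rw [hφ', ← hYi, sum_ind, Finset.inter_comm] at h1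
      exact (ZMod.natCast_eq_zero_iff_even).1 h1
    have hYX : Y ⊆ X := by
      intro i hi
      by_contra h1
      exact ((mem_support₂ y i).1 hi) (hyX i h1)
    have h1 : φ (ind s) = 0 := by
      rw [hφ', ← hYi, sum_ind]
      exact (ZMod.natCast_eq_zero_iff_even).2 (h Y hYW hYX)
    exact hφ h1

/-! ### transitivity -/

open Cfsg.Agent.GolayOrbit.Flags Cfsg.Agent.GolayOrbit.Code Cfsg.Agent.J4Type.OctadFixTrans
open Cfsg.Agent.GolayOrbit.Basic

/-- `M24` is transitive on the flags (octad, point of it). -/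
theorem octad_flag {o o' : Finset GolayPt} (ho : o ∈ octads) (ho' : o' ∈ octads) {p p' : GolayPt} (hp : p ∈ o)
    (hp' : p' ∈ o') : ∃ g ∈ M24, g • o = o' ∧ g p = p' := by
  obtain ⟨q, hq⟩ := exists_not_mem ho
  obtain ⟨q', hq'⟩ := exists_not_mem ho'
  obtain ⟨a, ha, a1, a2, -⟩ := flagInOut ho hp hq
  obtain ⟨b, hb, b1, b2, -⟩ := flagInOut ho' hp' hq'
  refine ⟨b * a⁻¹, M24.mul_mem hb (M24.inv_mem ha), ?_, ?_⟩
  · rw [mul_smul, ← a1, inv_smul_smul, b1]
  · rw [Equiv.Perm.mul_apply, show a⁻¹ p = p₀ by rw [Equiv.Perm.inv_eq_iff_eq, a2], b2]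

/-- `M24` is transitive on octads with an ordered pair of points outside. -/
theorem octad_pair {o o' : Finset GolayPt} (ho : o ∈ octads) (ho' : o' ∈ octads) {p q p' q' : GolayPt} (hp : p ∉ o)
    (hq : q ∉ o) (hpq : p ≠ q) (hp' : p' ∉ o') (hq' : q' ∉ o') (hpq' : p' ≠ q') :
    ∃ g ∈ M24, g • o = o' ∧ g p = p' ∧ g q = q' := by
  obtain ⟨a, ha, a1⟩ := octad_transitive ho
  obtain ⟨b, hb, b1⟩ := octad_transitive ho'
  have h1 : ∀ p, p ∉ o → a⁻¹ p ∉ ofMask O₀ := by
    intro p hp h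
    apply hp
    rw [← a1]
    exact Finset.inv_smul_mem_iff.mp h
  have h2 : ∀ p, p ∉ o' → b⁻¹ p ∉ ofMask O₀ := by
    intro p hp h
    apply hp
    rw [← b1]
    exact Finset.inv_smul_mem_iff.mp h
  obtain ⟨g, hg, -, -, g3, g4, g5⟩ := pair_trans₀ (h1 p hp) (h1 q hq) (fun h => hpq (a⁻¹.injective h))
    (h2 p' hp') (h2 q' hq') (fun h => hpq' (b⁻¹.injective h))
  refine ⟨b * g * a⁻¹, M24.mul_mem (M24.mul_mem hb hg) (M24.inv_mem ha), ?_, ?_, ?_⟩
  · rw [mul_smul, ← a1, inv_smul_smul, mul_smul, g3, b1]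
  · rw [Equiv.Perm.mul_apply, Equiv.Perm.mul_apply, g4]
    exact smul_inv_smul b p'
  · rw [Equiv.Perm.mul_apply, Equiv.Perm.mul_apply, g5]
    exact smul_inv_smul b q'

/-- an injective 5-tuple in a set with at least five elements, with prescribed first entry -/
theorem exists_tuple {d : Finset GolayPt} (hd : 5 ≤ d.card) {p : GolayPt} (hp : p ∈ d) :
    ∃ a : Fin 5 → GolayPt, Function.Injective a ∧ (∀ i, a i ∈ d) ∧ a 0 = p := by
  obtain ⟨s, hs, hs4⟩ := Finset.exists_subset_card_eq (s := d.erase p) (n := 4)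
    (by rw [Finset.card_erase_of_mem hp]; omega)
  have e := s.equivFinOfCardEq hs4
  refine ⟨Fin.cons p fun i => ((e.symm i : s) : GolayPt), ?_, ?_, ?_⟩
  · rw [Fin.cons_injective_iff]
    refine ⟨?_, fun i j hij => e.symm.injective (Subtype.ext hij)⟩
    rintro ⟨i, hi⟩
    exact (Finset.mem_erase.1 (hs (e.symm i).2)).1 hi
  · intro i
    refine Fin.cases hp (fun i => ?_) i
    exact Finset.mem_of_mem_erase (hs (e.symm i).2)
  · rfl

/-- `M24` is transitive on the pairs (dodecad, point outside). -/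
theorem dodecad_out {d d' : Finset GolayPt} (hd : d ∈ dodecads) (hd' : d' ∈ dodecads) {p p' : GolayPt} (hp : p ∉ d)
    (hp' : p' ∉ d') : ∃ g ∈ M24, g • d = d' ∧ g p = p' := by
  have hc : ∀ d : Finset GolayPt, d ∈ dodecads → dᶜ ∈ dodecads := by
    intro d hd
    refine ⟨compl_mem hd.1, ?_⟩
    have h1 : d.card = 12 := hd.2
    rw [Finset.card_compl, card_golayPt, h1]
  obtain ⟨a, ha, had, ha0⟩ := exists_tuple (d := dᶜ) (p := p) (by rw [(hc d hd).2]; norm_num)
    (Finset.mem_compl.2 hp)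
  obtain ⟨b, hb, hbd, hb0⟩ := exists_tuple (d := d'ᶜ) (p := p') (by rw [(hc d' hd').2]; norm_num)
    (Finset.mem_compl.2 hp')
  obtain ⟨g, ⟨hg, hgd, hga⟩, -⟩ := Cfsg.Agent.SporadicStructure.DodecadM12.exists_unique_dodecad_map _ _
    (hc d hd) (hc d' hd') a b ha hb had hbd
  refine ⟨g, hg, ?_, by rw [← ha0, hga, hb0]⟩
  ext i
  have h1 : i ∈ g • dᶜ ↔ i ∈ d'ᶜ := by rw [hgd]
  rw [← Finset.inv_smul_mem_iff, Finset.mem_compl, Finset.mem_compl] at h1
  rw [← Finset.inv_smul_mem_iff]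
  exact not_iff_not.1 h1

/-- `M24` is transitive on the ordered triples of points; it maps 4-sets to 4-sets. -/
theorem five_map (a b : Fin 5 → GolayPt) (ha : Function.Injective a) (hb : Function.Injective b) :
    ∃ g ∈ M24, ∀ i, g (a i) = b i := by
  obtain ⟨g, hg, h1⟩ := Cfsg.Agent.SporadicStructure.DodecadM12.exists_map_base a ha
  obtain ⟨h, hh, h2⟩ := Cfsg.Agent.SporadicStructure.DodecadM12.exists_map_base b hb
  refine ⟨h * g⁻¹, M24.mul_mem hh (M24.inv_mem hg), fun i => ?_⟩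
  rw [Equiv.Perm.mul_apply, show g⁻¹ (a i) = Cfsg.Agent.SporadicStructure.DodecadM12.base i by
    rw [Equiv.Perm.inv_eq_iff_eq, h1], h2]

/-- an injective 5-tuple which ends with an enumeration of a 4-set -/
theorem exists_tuple_four {T : Finset GolayPt} (hT : T.card = 4) :
    ∃ a : Fin 5 → GolayPt, Function.Injective a ∧ ∀ p, p ∈ T ↔ ∃ i : Fin 4, a i.succ = p := by
  obtain ⟨x, hx⟩ : ∃ x, x ∉ T := by
    by_contra h
    push Not at h
    have h1 : T = Finset.univ := Finset.eq_univ_iff_forall.2 h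
    rw [h1, Finset.card_univ, card_golayPt] at hT
    omega
  have e := T.equivFinOfCardEq hT
  refine ⟨Fin.cons x fun i => ((e.symm i : T) : GolayPt), ?_, fun p => ⟨fun hp => ?_, ?_⟩⟩
  · rw [Fin.cons_injective_iff]
    refine ⟨?_, fun i j hij => e.symm.injective (Subtype.ext hij)⟩
    rintro ⟨i, hi⟩
    exact hx (hi ▸ (e.symm i).2)
  · refine ⟨e ⟨p, hp⟩, ?_⟩
    rw [Fin.cons_succ, Equiv.symm_apply_apply]
  · rintro ⟨i, rfl⟩
    rw [Fin.cons_succ]
    exact (e.symm i).2

/-- `M24` is transitive on the 4-sets. -/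
theorem four_set {T T' : Finset GolayPt} (hT : T.card = 4) (hT' : T'.card = 4) : ∃ g ∈ M24, g • T = T' := by
  obtain ⟨a, ha, ha'⟩ := exists_tuple_four hT
  obtain ⟨b, hb, hb'⟩ := exists_tuple_four hT'
  obtain ⟨g, hg, h1⟩ := five_map a b ha hb
  refine ⟨g, hg, ?_⟩
  apply Finset.eq_of_subset_of_card_le
  · intro p hp
    obtain ⟨q, hq, rfl⟩ := Finset.mem_smul_finset.1 hp
    obtain ⟨i, rfl⟩ := (ha' q).1 hq
    exact (hb' _).2 ⟨i, (h1 _).symm⟩
  · rw [Finset.card_smul_finset, hT, hT']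

/-- an injective 5-tuple starting with three given points -/
theorem exists_tuple_three {p q r : GolayPt} (hpq : p ≠ q) (hpr : p ≠ r) (hqr : q ≠ r) :
    ∃ a : Fin 5 → GolayPt, Function.Injective a ∧ a 0 = p ∧ a 1 = q ∧ a 2 = r := by
  obtain ⟨s, hs, hs2⟩ := Finset.exists_subset_card_eq (s := (({p, q, r} : Finset GolayPt))ᶜ) (n := 2) (by
    rw [Finset.card_compl, card_golayPt]
    have : ({p, q, r} : Finset GolayPt).card ≤ 3 := Finset.card_le_three
    omega)
  have e := s.equivFinOfCardEq hs2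
  have h0 : ∀ i, ((e.symm i : s) : GolayPt) ≠ p ∧ ((e.symm i : s) : GolayPt) ≠ q ∧ ((e.symm i : s) : GolayPt) ≠ r := by
    intro i
    have h1 := hs (e.symm i).2
    rw [Finset.mem_compl] at h1
    simpa using h1
  refine ⟨Fin.cons p (Fin.cons q (Fin.cons r fun i => ((e.symm i : s) : GolayPt))), ?_, rfl, rfl, rfl⟩
  rw [Fin.cons_injective_iff, Fin.cons_injective_iff, Fin.cons_injective_iff]
  refine ⟨?_, ?_, ?_, fun i j hij => e.symm.injective (Subtype.ext hij)⟩
  · rintro ⟨i, hi⟩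
    revert hi
    refine Fin.cases ?_ (fun i => ?_) i
    · exact fun h => hpq h.symm
    · refine Fin.cases ?_ (fun i => ?_) i
      · exact fun h => hpr h.symm
      · exact (h0 i).1
  · rintro ⟨i, hi⟩
    revert hi
    refine Fin.cases ?_ (fun i => ?_) i
    · exact fun h => hqr h.symm
    · exact (h0 i).2.1
  · rintro ⟨i, hi⟩
    exact (h0 i).2.2 hi

/-- `M24` is transitive on the ordered triples of points. -/
theorem three_map {p q r p' q' r' : GolayPt} (hpq : p ≠ q) (hpr : p ≠ r) (hqr : q ≠ r) (hpq' : p' ≠ q')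
    (hpr' : p' ≠ r') (hqr' : q' ≠ r') : ∃ g ∈ M24, g p = p' ∧ g q = q' ∧ g r = r' := by
  obtain ⟨a, ha, a0, a1, a2⟩ := exists_tuple_three hpq hpr hqr
  obtain ⟨b, hb, b0, b1, b2⟩ := exists_tuple_three hpq' hpr' hqr'
  obtain ⟨g, hg, h1⟩ := five_map a b ha hb
  exact ⟨g, hg, by rw [← a0, h1, b0], by rw [← a1, h1, b1], by rw [← a2, h1, b2]⟩

end Cfsg.Agent.H995.Co1F
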