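import Cfsg.Agent.H995.Co1F.Data

/-!
# Five involutions of `Co0`: the checks
-/

set_option autoImplicit false

namespace Cfsg.Agent.H995.Co1F

open Cfsg Cfsg.Agent.LeechMat.Code Cfsg.Agent.LeechMat.Core Cfsg.Agent.LeechMat.Gen
  Cfsg.Agent.LeechMat.Elements

/-- symmetry of the matrix with the given columns -/
def symm (A : List ℕ) : Bool :=
  allTo (fun j => allTo (fun k => sdig (A.getD j 0) k == sdig (A.getD k 0) j) 24) 24

theorem mv_apply (A : List ℕ) (x : GolayPt → ℤ) (i : GolayPt) :
    mv A x i = ∑ j, x j * vec (A.getD (pos j) 0) i := rfl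

/-- a symmetric checked matrix squares to `d²` -/
theorem mv_mv {d : ℕ} {A : List ℕ} (ho : orth d A = true) (hs : symm A = true) (x : GolayPt → ℤ) :
    mv A (mv A x) = (d : ℤ) ^ 2 • x := by
  unfold symm at hs
  rw [allTo_iff] at hs
  have hs' : ∀ j k : GolayPt, vec (A.getD (pos j) 0) k = vec (A.getD (pos k) 0) j := by
    intro j k
    have h1 := hs (pos j) (pos_lt j)
    rw [allTo_iff] at h1
    have h2 := h1 (pos k) (pos_lt k)
    rw [beq_iff_eq] at h2
    exact h2
  unfold orth at ho
  rw [allTo_iff] at ho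
  have ho' : ∀ j k : GolayPt, ∑ i, vec (A.getD (pos j) 0) i * vec (A.getD (pos k) 0) i
      = if j = k then (d : ℤ) ^ 2 else 0 := by
    intro j k
    have h1 := ho (pos j) (pos_lt j)
    rw [allTo_iff] at h1
    have h2 := h1 (pos k) (pos_lt k)
    rw [beq_iff_eq, dotc_eq] at h2
    have h3 : (pos j = pos k) ↔ (j = k) := ⟨pos_inj, fun h => by rw [h]⟩
    simp only [h3] at h2
    exact h2
  funext i
  rw [mv_apply]
  have e1 : ∀ j, mv A x j * vec (A.getD (pos j) 0) i
      = ∑ k, x k * (vec (A.getD (pos k) 0) j * vec (A.getD (pos i) 0) j) := by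
    intro j
    rw [mv_apply, Finset.sum_mul]
    exact Finset.sum_congr rfl fun k _ => by rw [hs' j i]; ring
  rw [Finset.sum_congr rfl fun j _ => e1 j, Finset.sum_comm]
  have e2 : ∀ k, ∑ j, x k * (vec (A.getD (pos k) 0) j * vec (A.getD (pos i) 0) j)
      = if k = i then (d : ℤ) ^ 2 * x k else 0 := by
    intro k
    rw [← Finset.mul_sum, ho' k i]
    split <;> ring
  rw [Finset.sum_congr rfl fun k _ => e2 k, Finset.sum_ite_eq']
  simp

/-- `8 e_i` -/
theorem mv_single {d : ℕ} {A : List ℕ} (i : GolayPt) (c : ℤ) :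
    mv A (Pi.single i c) = c • vec (A.getD (pos i) 0) := by
  have _ := d
  funext k
  rw [mv_apply, Finset.sum_eq_single i]
  · rw [Pi.single_eq_same]; rfl
  · intro j _ hj
    rw [Pi.single_eq_of_ne hj, zero_mul]
  · intro h; exact absurd (Finset.mem_univ i) h

/-- **Checked symmetric matrices give involutions.** -/
theorem exists_invol {A ys : List ℕ} (h : checkMat 8 A ys = true) (hs : symm A = true) :
    ∃ t : Co0, t * t = 1 ∧ ∀ (i : GolayPt) (v : leechLattice), (v : GolayPt → ℤ) = Pi.single i 8 →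
      ((t • v : leechLattice) : GolayPt → ℤ) = vec (A.getD (pos i) 0) := by
  obtain ⟨t, ht⟩ := exists_co0 h
  have h' := h
  unfold checkMat at h'
  rw [Bool.and_eq_true, Bool.and_eq_true, Bool.and_eq_true] at h'
  have hcanc : ∀ y z : GolayPt → ℤ, (8 : ℤ) • y = (8 : ℤ) • z → y = z := by
    intro y z hyz
    funext p
    have := congrFun hyz p
    rw [Pi.smul_apply, Pi.smul_apply, smul_eq_mul, smul_eq_mul] at this
    omega
  refine ⟨t, ?_, fun i v hv => ?_⟩
  · apply Subtype.ext
    apply Equiv.ext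
    intro x
    apply Subtype.ext
    show (((t * t) • x : leechLattice) : GolayPt → ℤ) = (x : GolayPt → ℤ)
    rw [mul_smul]
    apply hcanc
    apply hcanc
    have h1 : (8 : ℤ) • ((t • (t • x) : leechLattice) : GolayPt → ℤ) = mv A ((t • x : leechLattice) : GolayPt → ℤ) :=
      (ht (t • x)).symm
    have h2 : (8 : ℤ) • ((t • x : leechLattice) : GolayPt → ℤ) = mv A (x : GolayPt → ℤ) := (ht x).symm
    have h3 : mv A ((8 : ℤ) • ((t • x : leechLattice) : GolayPt → ℤ)) =
        (8 : ℤ) • mv A ((t • x : leechLattice) : GolayPt → ℤ) := by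
      funext k
      rw [Pi.smul_apply, smul_eq_mul, mv_apply, mv_apply, Finset.mul_sum]
      exact Finset.sum_congr rfl fun j _ => by rw [Pi.smul_apply, smul_eq_mul]; ring
    rw [h1, ← h3, h2, mv_mv h'.1.2 hs, ← mul_smul]
    norm_num
  · apply hcanc
    have h2 : (8 : ℤ) • ((t • v : leechLattice) : GolayPt → ℤ) = mv A (v : GolayPt → ℤ) := (ht v).symm
    rw [h2, hv, mv_single (d := 8)]

theorem chk2 : checkMat 8 A2 Y2 = true := by decide +kernel
theorem chk3 : checkMat 8 A3 Y3 = true := by decide +kernel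
theorem chk4 : checkMat 8 A4 Y4 = true := by decide +kernel
theorem chk5 : checkMat 8 A5 Y5 = true := by decide +kernel
theorem chk6 : checkMat 8 A6 Y6 = true := by decide +kernel
theorem sym2 : symm A2 = true := by decide +kernel
theorem sym3 : symm A3 = true := by decide +kernel
theorem sym4 : symm A4 = true := by decide +kernel
theorem sym5 : symm A5 = true := by decide +kernel
theorem sym6 : symm A6 = true := by decide +kernel

theorem getD2 : A2.getD 2 0 = R2 := by decide +kernel
theorem getD3 : A3.getD 23 0 = R3 := by decide +kernel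
theorem getD4 : A4.getD 1 0 = R4 := by decide +kernel
theorem getD5 : A5.getD 23 0 = R5 := by decide +kernel
theorem getD6 : A6.getD 1 0 = R6 := by decide +kernel

end Cfsg.Agent.H995.Co1F
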