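import Cfsg.Agent.H995.Co1F.Inter
import Cfsg.Agent.SporadicA.Co0Mono
import Cfsg.Agent.MonsterX.FrameStab

/-!
# The monomial subgroup `N` of `Co0` and congruence modulo `2 Λ`
-/

set_option autoImplicit false

namespace Cfsg.Agent.H995.Co1F

open Cfsg
open Cfsg.Agent.SporadicA.Co0Mono
open Cfsg.Agent.MonsterX.FrameStab (FixesFrame fixesFrame_one fixesFrame_mul fixesFrame_inv preserves_of_congr)
open Cfsg.Agent.SporadicStructure.StdCross Cfsg.Agent.SporadicStructure.Co0Base
open Cfsg.Agent.SporadicA.Co0Card (v0)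

/-- `v ≡ w` modulo `2 Λ` -/
def Cong (v w : leechLattice) : Prop := ∃ x : leechLattice, v - w = 2 • x

theorem Cong.refl (v : leechLattice) : Cong v v := ⟨0, by rw [sub_self, _root_.smul_zero]⟩

theorem Cong.symm {v w : leechLattice} (h : Cong v w) : Cong w v := by
  obtain ⟨x, hx⟩ := h
  exact ⟨-x, by rw [_root_.smul_neg, ← hx, neg_sub]⟩

theorem Cong.trans {u v w : leechLattice} (h : Cong u v) (h' : Cong v w) : Cong u w := by
  obtain ⟨x, hx⟩ := h
  obtain ⟨y, hy⟩ := h'
  exact ⟨x + y, by rw [_root_.smul_add, ← hx, ← hy]; abel⟩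

theorem Cong.smul {v w : leechLattice} (g : Co0) (h : Cong v w) : Cong (g • v) (g • w) := by
  obtain ⟨x, hx⟩ := h
  refine ⟨g • x, ?_⟩
  rw [← Cfsg.Agent.SporadicA.Co0Mono.smul_sub, hx, smul_nsmul]

theorem cong_neg (v : leechLattice) : Cong (-v) v := ⟨-v, by rw [two_smul]; abel⟩

theorem v0_eq : v0 = e8 none := Subtype.ext rfl

theorem cong_e8 (i j : GolayPt) : Cong (e8 i) (e8 j) := by
  refine ⟨⟨_, four_mul_mem (Pi.single i 1 - Pi.single j 1) ?_⟩, ?_⟩
  · simp [Finset.sum_sub_distrib]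
  · apply Subtype.ext
    rw [AddSubgroup.coe_sub, e8_coe, e8_coe, two_smul, AddSubgroup.coe_add]
    funext k
    simp only [Pi.sub_apply, Pi.add_apply, Pi.single_apply]
    split_ifs <;> norm_num

theorem fixes_iff_cong (A : Co0) : FixesFrame A ↔ Cong (A • e8 none) (e8 none) := by
  rw [← v0_eq]
  constructor
  · intro h
    exact Cong.symm h
  · intro h
    exact Cong.symm h

/-- Elements of `N` are products of a sign change and a permutation. -/
theorem frame_form {A : Co0} (h : FixesFrame A) : ∃ (c : golayCode) (σ : M24), A = signCo0 c * permCo0 σ := by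
  obtain ⟨σ, hσ, c, ⟨w, hw, rfl⟩, hA⟩ := exists_signedPerm A (preserves_of_congr A h)
  refine ⟨⟨w, hw⟩, ⟨σ, hσ⟩, ?_⟩
  apply ext
  intro v
  apply Subtype.ext
  funext i
  rw [hA, mul_smul, signCo0_smul, permCo0_smul, signMap_apply, permMap_apply, signedPerm_apply]
  by_cases h0 : w i = 0
  · rw [if_neg (by rw [Cfsg.Agent.Leech.Code.mem_support₂]; simpa using h0)]
    simp [sgn, h0]
  · rw [if_pos (by rw [Cfsg.Agent.Leech.Code.mem_support₂]; simpa using h0)]
    simp [sgn, h0]

theorem fixes_sign (c : golayCode) : FixesFrame (signCo0 c) := by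
  rw [fixes_iff_cong]
  have h : signCo0 c • e8 none = e8 none ∨ signCo0 c • e8 none = -e8 none := by
    rcases Cfsg.Agent.SporadicStructure.LeechBase.zmod2_cases ((c : GolayPt → ZMod 2) none) with h0 | h0
    · left
      apply Subtype.ext
      rw [signCo0_smul, e8_coe]
      funext k
      rw [signMap_apply]
      by_cases hk : k = none
      · rw [hk, h0, sgn_zero, one_mul]
      · rw [Pi.single_eq_of_ne hk, mul_zero]
    · right
      apply Subtype.ext
      rw [signCo0_smul, AddSubgroup.coe_neg, e8_coe]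
      funext k
      rw [signMap_apply, Pi.neg_apply]
      by_cases hk : k = none
      · rw [hk, h0, sgn_one, neg_one_mul]
      · rw [Pi.single_eq_of_ne hk, mul_zero, neg_zero]
  rcases h with h | h
  · rw [h]; exact Cong.refl _
  · rw [h]; exact cong_neg _

theorem perm_e8 (σ : M24) (i : GolayPt) : permCo0 σ • e8 i = e8 ((σ : Equiv.Perm GolayPt) i) := by
  apply Subtype.ext
  rw [permCo0_smul, e8_coe, e8_coe]
  funext k
  rw [permMap_apply, Pi.single_apply, Pi.single_apply]
  simp only [Equiv.symm_apply_eq]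

theorem fixes_perm (σ : M24) : FixesFrame (permCo0 σ) := by
  rw [fixes_iff_cong, perm_e8]
  exact cong_e8 _ _

/-- `v` is congruent, up to `N`, to the image of some `8 e_j` under an involution -/
def Good (v : leechLattice) : Prop :=
  ∃ n : Co0, FixesFrame n ∧ ∃ t : Co0, t * t = 1 ∧ ∃ j, Cong (n • v) (t • e8 j)

theorem Good.of_cong {v w : leechLattice} (h : Cong v w) (hw : Good w) : Good v := by
  obtain ⟨n, hn, t, ht, j, hj⟩ := hw
  exact ⟨n, hn, t, ht, j, (h.smul n).trans hj⟩

theorem Good.of_smul {v : leechLattice} {n : Co0} (hn : FixesFrame n) (hw : Good (n • v)) : Good v := by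
  obtain ⟨m, hm, t, ht, j, hj⟩ := hw
  exact ⟨m * n, fixesFrame_mul hm hn, t, ht, j, by rwa [mul_smul]⟩

theorem Good.of_eq {v : leechLattice} {t : Co0} (ht : t * t = 1) {j : GolayPt} (h : v = t • e8 j) : Good v :=
  ⟨1, fixesFrame_one, t, ht, j, by rw [one_smul, h]; exact Cong.refl _⟩

theorem good_e8 (i : GolayPt) : Good (e8 i) :=
  Good.of_eq (t := 1) (one_mul 1) (j := i) (by rw [one_smul])

/-- **The double coset step.** -/
theorem step (hA : ∀ v : leechLattice, sqNorm (v : GolayPt → ℤ) = 64 → Good v) (g : Co0) :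
    ∃ u t h : Co0, t * t = 1 ∧ FixesFrame h ∧ u * g * u⁻¹ = t * h := by
  obtain ⟨n, hn, t, ht, j, hj⟩ := hA (g • e8 none) (by
    rw [sqNorm_smul, ← v0_eq]
    exact Cfsg.Agent.SporadicA.Co0Card.sqNorm_v0)
  have ht' : t⁻¹ = t := inv_eq_of_mul_eq_one_left ht
  have h1 : FixesFrame (t * n * g) := by
    rw [fixes_iff_cong, mul_smul, mul_smul]
    have h2 := hj.smul t
    rw [← mul_smul t t, ht, one_smul] at h2
    exact h2.trans (cong_e8 _ _)
  refine ⟨n, t, t * n * g * n⁻¹, ht, fixesFrame_mul h1 (fixesFrame_inv hn), ?_⟩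
  have : t * (t * n * g * n⁻¹) = (t * t) * (n * g * n⁻¹) := by group
  rw [this, ht, one_mul]

end Cfsg.Agent.H995.Co1F
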