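import Cfsg.Agent.H995.Co1F.Mono
import Cfsg.Agent.H995.Co1F.Invol
import Cfsg.Agent.Leech.Basic

/-!
# The vectors of the standard shapes are good
-/

set_option autoImplicit false

namespace Cfsg.Agent.H995.Co1F

open Cfsg
open Cfsg.Agent.SporadicA.Co0Mono
open Cfsg.Agent.MonsterX.FrameStab (FixesFrame fixesFrame_mul)
open Cfsg.Agent.SporadicStructure.Co0Base (e8 e8_coe)
open Cfsg.Agent.Leech.Code Cfsg.Agent.Leech.Basic
open Cfsg.Agent.SporadicA.GolayBase (fin mem_fin enc)
open Cfsg.Agent.LeechMat.Elements (vec checkMat)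
open Cfsg.Agent.LeechMat.Code (pos)
open scoped Pointwise

/-! ### words inside a set -/

/-- the words inside `X` are `0` and `W` -/
def chkIn (X W : ℕ) : Bool :=
  (List.range 4096).all fun c => !(Nat.beq (enc c &&& X) (enc c)) || (Nat.beq (enc c) 0 || Nat.beq (enc c) W)

theorem words_in {X W : ℕ} (h : chkIn X W = true) {d : Finset GolayPt} (hd : d ∈ Words) (hdX : d ⊆ fin X) :
    d = ∅ ∨ d = fin W := by
  have h1 := (Cfsg.Agent.SporadicA.GolayBase.mem_supports_iff d).1 hd
  obtain ⟨c, hc, hce⟩ := Cfsg.Agent.SporadicA.GolayBase.isCode_iff_exists.1 h1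
  have h2 := List.all_eq_true.1 h c (List.mem_range.2 hc)
  have hfin := Cfsg.Agent.SporadicA.GolayBase.fin_maskOf d
  rw [Bool.or_eq_true, Bool.or_eq_true, Bool.not_eq_true'] at h2
  rw [← hce] at h2
  have hsub : Cfsg.Agent.SporadicA.GolayBase.maskOf d &&& X = Cfsg.Agent.SporadicA.GolayBase.maskOf d := by
    apply Nat.eq_of_testBit_eq
    intro k
    rw [Nat.testBit_and]
    by_cases hk : k < 24
    · by_cases hb : (Cfsg.Agent.SporadicA.GolayBase.maskOf d).testBit k = true
      · have h3 : Cfsg.Agent.SporadicA.GolayBase.pt k ∈ d := by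
          rw [← hfin, mem_fin, Cfsg.Agent.SporadicA.GolayBase.idx_pt hk]
          exact hb
        have h4 := mem_fin.1 (hdX h3)
        rw [Cfsg.Agent.SporadicA.GolayBase.idx_pt hk] at h4
        rw [h4, Bool.and_true]
      · rw [Bool.not_eq_true] at hb
        rw [hb, Bool.false_and]
    · have hlt := Cfsg.Agent.SporadicA.GolayBase.maskOf_lt d
      have h3 : (Cfsg.Agent.SporadicA.GolayBase.maskOf d).testBit k = false :=
        Nat.testBit_lt_two_pow (lt_of_lt_of_le hlt (Nat.pow_le_pow_right (by norm_num) (by omega)))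
      rw [h3, Bool.false_and]
  rw [hsub, Nat.beq_refl] at h2
  rcases h2 with h2 | h2 | h2
  · exact absurd h2 (by decide)
  · left
    rw [← hfin, Nat.eq_of_beq_eq_true h2]
    ext p
    rw [mem_fin]
    simp
  · right
    rw [← hfin, Nat.eq_of_beq_eq_true h2]

/-! ### signs -/

theorem isLeech_zero_of {x : GolayPt → ℤ} (hx : x ∈ leechLattice) {i : GolayPt} (h : x i % 2 = 0) : IsLeech 0 x := by
  rcases isLeech_zero_or_one hx with h1 | h1
  · exact h1
  · exfalso
    have := h1.par i
    unfold Int.ModEq at this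
    omega

/-- Two even vectors with the same absolute values differ by a sign change, if there is only one nonempty word in the
support. -/
theorem sign_fix {v r : leechLattice} (hv : IsLeech 0 (v : GolayPt → ℤ)) (hr : IsLeech 0 (r : GolayPt → ℤ))
    {X W : Finset GolayPt} (hX : ∀ i, i ∉ X → (r : GolayPt → ℤ) i = 0)
    (hW : ∀ i, (i ∈ W → (r : GolayPt → ℤ) i % 4 = 2) ∧ (i ∉ W → (r : GolayPt → ℤ) i % 4 = 0))
    (hin : ∀ d ∈ Words, d ⊆ X → d = ∅ ∨ d = W)
    (h : ∀ i, (v : GolayPt → ℤ) i = (r : GolayPt → ℤ) i ∨ (v : GolayPt → ℤ) i = -(r : GolayPt → ℤ) i) :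
    ∃ c : golayCode, signCo0 c • v = r := by
  classical
  set N : Finset GolayPt := Finset.univ.filter fun i => (v : GolayPt → ℤ) i ≠ (r : GolayPt → ℤ) i with hN
  have hmN : ∀ i, i ∈ N ↔ (v : GolayPt → ℤ) i ≠ (r : GolayPt → ℤ) i := fun i => by simp [hN]
  have hNX : N ⊆ X := by
    intro i hi
    by_contra h1
    apply (hmN i).1 hi
    have h2 := hX i h1
    rcases h i with h3 | h3
    · exact h3
    · rw [h3, h2]; rfl
  have hsum : ∑ i, (v : GolayPt → ℤ) i = ∑ i, (r : GolayPt → ℤ) i - 2 * ∑ i ∈ N, (r : GolayPt → ℤ) i := by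
    have e : ∀ i, (v : GolayPt → ℤ) i = (r : GolayPt → ℤ) i - 2 * (if i ∈ N then (r : GolayPt → ℤ) i else 0) := by
      intro i
      by_cases hi : i ∈ N
      · rw [if_pos hi]
        rcases h i with h3 | h3
        · exact absurd h3 ((hmN i).1 hi)
        · rw [h3]; ring
      · rw [if_neg hi]
        have := (not_iff_not.2 (hmN i)).1 hi
        rw [not_not] at this
        rw [this]; ring
    rw [Finset.sum_congr rfl fun i _ => e i, Finset.sum_sub_distrib, ← Finset.mul_sum, Finset.sum_ite_mem,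
      Finset.univ_inter]
  have hmod : ∑ i ∈ N, (r : GolayPt → ℤ) i ≡ 2 * ((N ∩ W).card : ℤ) [ZMOD 4] := by
    have e : ∀ i ∈ N, (r : GolayPt → ℤ) i ≡ (if i ∈ W then 2 else 0) [ZMOD 4] := by
      intro i _
      unfold Int.ModEq
      by_cases hi : i ∈ W
      · rw [if_pos hi, (hW i).1 hi]; rfl
      · rw [if_neg hi, (hW i).2 hi]; rfl
    have h2 : ∑ i ∈ N, (r : GolayPt → ℤ) i ≡ ∑ i ∈ N, (if i ∈ W then (2 : ℤ) else 0) [ZMOD 4] := by
      clear_value N
      clear hsum hNX hmN hN
      induction N using Finset.induction_on with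
      | empty => rfl
      | insert a s ha ih =>
        rw [Finset.sum_insert ha, Finset.sum_insert ha]
        exact (e a (Finset.mem_insert_self a s)).add (ih fun i hi => e i (Finset.mem_insert_of_mem hi))
    rw [Finset.sum_ite_mem, Finset.sum_const, nsmul_eq_mul, mul_comm] at h2
    exact h2
  have heven : Even (N ∩ W).card := by
    have h1 := hv.sum
    have h2 := hr.sum
    unfold Int.ModEq at h1 h2 hmod
    rw [Nat.even_iff]
    omega
  obtain ⟨c, hc, hcX⟩ := exists_inter hNX (fun d hd hdX => by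
    rcases hin d hd hdX with rfl | rfl
    · simp
    · exact heven)
  refine ⟨⟨ind c, (mem_words_iff c).1 hc⟩, ?_⟩
  apply Subtype.ext
  funext i
  rw [signCo0_smul, signMap_apply]
  have hci : sgn (ind c i) = if i ∈ c then -1 else 1 := by
    rw [ind_apply]
    by_cases hi : i ∈ c
    · rw [if_pos hi, if_pos hi]; exact sgn_one
    · rw [if_neg hi, if_neg hi]; exact sgn_zero
  show sgn (ind c i) * _ = _
  rw [hci]
  by_cases hiX : i ∈ X
  · by_cases hi : i ∈ c
    · have hiN : i ∈ N := by rw [← hcX]; exact Finset.mem_inter.2 ⟨hi, hiX⟩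
      rw [if_pos hi]
      rcases h i with h3 | h3
      · exact absurd h3 ((hmN i).1 hiN)
      · rw [h3]; ring
    · have hiN : i ∉ N := fun h4 => hi (by rw [← hcX] at h4; exact (Finset.mem_inter.1 h4).1)
      have := (not_iff_not.2 (hmN i)).1 hiN
      rw [not_not] at this
      rw [if_neg hi, this, one_mul]
  · have h2 := hX i hiX
    have h3 : (v : GolayPt → ℤ) i = 0 := by
      rcases h i with h3 | h3 <;> rw [h3, h2]
      rfl
    rw [h3, h2, mul_zero]

/-! ### the standard shapes -/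

/-- The final step for an even shape: `P` is the pattern of absolute values. -/
theorem finish {v : leechLattice} {P : GolayPt → ℤ}
    (hv : ∀ i, (v : GolayPt → ℤ) i = P i ∨ (v : GolayPt → ℤ) i = -P i) {g : Equiv.Perm GolayPt} (hg : g ∈ M24)
    {A ys : List ℕ} (hA : checkMat 8 A ys = true) (hs : symm A = true) {R : ℕ} (j : GolayPt)
    (hR : A.getD (pos j) 0 = R) (hP : ∀ i, vec R i = P (g.symm i) ∨ vec R i = -P (g.symm i))
    (X W : ℕ) (hX : ∀ i, i ∉ fin X → vec R i = 0)
    (hW : ∀ i, (i ∈ fin W → vec R i % 4 = 2) ∧ (i ∉ fin W → vec R i % 4 = 0)) (hin : chkIn X W = true) : Good v := by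
  obtain ⟨t, ht, htR⟩ := exists_invol hA hs
  have hr : ((t • e8 j : leechLattice) : GolayPt → ℤ) = vec R := by
    rw [htR j (e8 j) (e8_coe j), hR]
  apply Good.of_smul (fixes_perm ⟨g, hg⟩)
  have hw : ∀ i, ((permCo0 ⟨g, hg⟩ • v : leechLattice) : GolayPt → ℤ) i = ((t • e8 j : leechLattice) : GolayPt → ℤ) i ∨
      ((permCo0 ⟨g, hg⟩ • v : leechLattice) : GolayPt → ℤ) i = -((t • e8 j : leechLattice) : GolayPt → ℤ) i := by
    intro i
    rw [permCo0_smul, permMap_apply, hr]
    show (v : GolayPt → ℤ) (g.symm i) = _ ∨ (v : GolayPt → ℤ) (g.symm i) = _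
    rcases hv (g.symm i) with h1 | h1 <;> rcases hP i with h2 | h2 <;> rw [h1, h2]
    · left; rfl
    · right; rw [neg_neg]
    · right; rfl
    · left; rfl
  have hev : vec R none % 2 = 0 := by
    rcases em (none ∈ fin W) with h1 | h1
    · have := (hW none).1 h1; omega
    · have := (hW none).2 h1; omega
  obtain ⟨c, hc⟩ := sign_fix (v := permCo0 ⟨g, hg⟩ • v) (r := t • e8 j)
    (isLeech_zero_of (permCo0 ⟨g, hg⟩ • v).2 (i := none) (by
      rcases hw none with h1 | h1 <;> rw [h1, hr] <;> omega))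
    (isLeech_zero_of (t • e8 j).2 (i := none) (by rw [hr]; exact hev)) (X := fin X) (W := fin W)
    (fun i hi => by rw [hr]; exact hX i hi) (fun i => by rw [hr]; exact hW i)
    (fun d hd hdX => words_in hin hd hdX) hw
  exact Good.of_smul (fixes_sign c) (Good.of_eq ht hc)

theorem card_fin_eq {m n : ℕ} (hm : m < 2 ^ 24) (h : Cfsg.Agent.SporadicA.GolayBase.popcount m = n) : (fin m).card = n := by
  rw [Cfsg.Agent.SporadicA.GolayBase.card_eq_popcount, Cfsg.Agent.SporadicA.GolayBase.maskOf_fin hm, h]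

/-- `(4^4, 0^20)` -/
theorem good_four {v : leechLattice} {T : Finset GolayPt} (hT : T.card = 4)
    (h1 : ∀ i ∈ T, (v : GolayPt → ℤ) i = 4 ∨ (v : GolayPt → ℤ) i = -4)
    (h0 : ∀ i, i ∉ T → (v : GolayPt → ℤ) i = 0) : Good v := by
  obtain ⟨g, hg, hgT⟩ := four_set hT (T' := fin 15) (card_fin_eq (by norm_num) (by decide +kernel))
  have hmem : ∀ i, g.symm i ∈ T ↔ i ∈ fin 15 := by
    intro i
    rw [← hgT, ← Finset.inv_smul_mem_iff]
    rfl
  refine finish (P := fun i => if i ∈ T then 4 else 0) (fun i => ?_) hg chk2 sym2 (some 2) getD2 (fun i => ?_)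
    15 0 (by decide +kernel) (by decide +kernel) (by decide +kernel)
  · by_cases hi : i ∈ T
    · simp only [if_pos hi]; exact h1 i hi
    · simp only [if_neg hi]; left; exact h0 i hi
  · have h2 : ∀ i, vec R2 i = if i ∈ fin 15 then 4 else 0 := by decide +kernel
    left
    rw [h2 i]
    by_cases hi : i ∈ fin 15
    · rw [if_pos hi, if_pos ((hmem i).2 hi)]
    · rw [if_neg hi, if_neg (fun h => hi ((hmem i).1 h))]

/-- mask of the standard octad -/
def o0 : ℕ := 0xc75001

theorem o0_mem : fin o0 ∈ octads :=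
  ⟨(Cfsg.Agent.SporadicA.GolayBase.fin_mem_supports_iff (by norm_num [o0])).2 (by decide +kernel),
    card_fin_eq (by norm_num [o0]) (by decide +kernel)⟩

/-- `(6, 2^7, 0^16)` -/
theorem good_six {v : leechLattice} {O : Finset GolayPt} (hO : O ∈ octads) {p : GolayPt} (hp : p ∈ O)
    (h6 : (v : GolayPt → ℤ) p = 6 ∨ (v : GolayPt → ℤ) p = -6)
    (h2 : ∀ i ∈ O, i ≠ p → (v : GolayPt → ℤ) i = 2 ∨ (v : GolayPt → ℤ) i = -2)
    (h0 : ∀ i, i ∉ O → (v : GolayPt → ℤ) i = 0) : Good v := by
  obtain ⟨g, hg, hgO, hgp⟩ := octad_flag hO o0_mem hp (p' := some 0) (by decide +kernel)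
  have hmem : ∀ i, g.symm i ∈ O ↔ i ∈ fin o0 := by
    intro i
    rw [← hgO, ← Finset.inv_smul_mem_iff]
    rfl
  have hpt : ∀ i, g.symm i = p ↔ i = some 0 := by
    intro i
    rw [Equiv.symm_apply_eq, hgp]
  refine finish (P := fun i => if i = p then 6 else if i ∈ O then 2 else 0) (fun i => ?_) hg chk3 sym3 none getD3
    (fun i => ?_) o0 o0 (by decide +kernel) (by decide +kernel) (by decide +kernel)
  · by_cases hi : i = p
    · simp only [if_pos hi]; rw [hi]; exact h6
    · simp only [if_neg hi]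
      by_cases hi' : i ∈ O
      · simp only [if_pos hi']; exact h2 i hi' hi
      · simp only [if_neg hi']; left; exact h0 i hi'
  · have h3 : ∀ i, vec R3 i = if i = some 0 then -6 else if i ∈ fin o0 then 2 else 0 := by decide +kernel
    rw [h3 i]
    by_cases hi : i = some 0
    · right
      rw [if_pos hi, if_pos ((hpt i).2 hi)]
    · left
      rw [if_neg hi, if_neg (fun h => hi ((hpt i).1 h))]
      by_cases hi' : i ∈ fin o0
      · rw [if_pos hi', if_pos ((hmem i).2 hi')]
      · rw [if_neg hi', if_neg (fun h => hi' ((hmem i).1 h))]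

/-- `(4^2, 2^8, 0^14)` -/
theorem good_eight {v : leechLattice} {O : Finset GolayPt} (hO : O ∈ octads) {p q : GolayPt} (hp : p ∉ O) (hq : q ∉ O)
    (hpq : p ≠ q) (hvp : (v : GolayPt → ℤ) p = 4 ∨ (v : GolayPt → ℤ) p = -4)
    (hvq : (v : GolayPt → ℤ) q = 4 ∨ (v : GolayPt → ℤ) q = -4)
    (h2 : ∀ i ∈ O, (v : GolayPt → ℤ) i = 2 ∨ (v : GolayPt → ℤ) i = -2)
    (h0 : ∀ i, i ∉ O → i ≠ p → i ≠ q → (v : GolayPt → ℤ) i = 0) : Good v := by
  obtain ⟨g, hg, hgO, hgp, hgq⟩ := octad_pair hO o0_mem hp hq hpq (p' := some 1) (q' := some 2) (by decide +kernel)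
    (by decide +kernel) (by decide +kernel)
  have hmem : ∀ i, g.symm i ∈ O ↔ i ∈ fin o0 := by
    intro i
    rw [← hgO, ← Finset.inv_smul_mem_iff]
    rfl
  have hpt : ∀ i, g.symm i = p ↔ i = some 1 := by
    intro i
    rw [Equiv.symm_apply_eq, hgp]
  have hqt : ∀ i, g.symm i = q ↔ i = some 2 := by
    intro i
    rw [Equiv.symm_apply_eq, hgq]
  refine finish (P := fun i => if i = p then 4 else if i = q then 4 else if i ∈ O then 2 else 0) (fun i => ?_) hg
    chk4 sym4 (some 1) getD4 (fun i => ?_) (o0 + 6) o0 (by decide +kernel) (by decide +kernel) (by decide +kernel)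
  · by_cases hi : i = p
    · simp only [if_pos hi]; rw [hi]; exact hvp
    · simp only [if_neg hi]
      by_cases hi1 : i = q
      · simp only [if_pos hi1]; rw [hi1]; exact hvq
      · simp only [if_neg hi1]
        by_cases hi' : i ∈ O
        · simp only [if_pos hi']; exact h2 i hi'
        · simp only [if_neg hi']; left; exact h0 i hi' hi hi1
  · have h3 : ∀ i, vec R4 i = if i = some 1 then 4 else if i = some 2 then 4 else if i ∈ fin o0 then 2 else 0 := by
      decide +kernel
    left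
    rw [h3 i]
    by_cases hi : i = some 1
    · rw [if_pos hi, if_pos ((hpt i).2 hi)]
    · rw [if_neg hi, if_neg (fun h => hi ((hpt i).1 h))]
      by_cases hi1 : i = some 2
      · rw [if_pos hi1, if_pos ((hqt i).2 hi1)]
      · rw [if_neg hi1, if_neg (fun h => hi1 ((hqt i).1 h))]
        by_cases hi' : i ∈ fin o0
        · rw [if_pos hi', if_pos ((hmem i).2 hi')]
        · rw [if_neg hi', if_neg (fun h => hi' ((hmem i).1 h))]

/-- mask of the standard dodecad -/
def d0 : ℕ := 340831

theorem d0_mem : fin d0 ∈ dodecads :=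
  ⟨(Cfsg.Agent.SporadicA.GolayBase.fin_mem_supports_iff (by norm_num [d0])).2 (by decide +kernel),
    card_fin_eq (by norm_num [d0]) (by decide +kernel)⟩

/-- `(4, 2^12, 0^11)` -/
theorem good_twelve {v : leechLattice} {D : Finset GolayPt} (hD : D ∈ dodecads) {p : GolayPt} (hp : p ∉ D)
    (hvp : (v : GolayPt → ℤ) p = 4 ∨ (v : GolayPt → ℤ) p = -4)
    (h2 : ∀ i ∈ D, (v : GolayPt → ℤ) i = 2 ∨ (v : GolayPt → ℤ) i = -2)
    (h0 : ∀ i, i ∉ D → i ≠ p → (v : GolayPt → ℤ) i = 0) : Good v := by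
  obtain ⟨g, hg, hgO, hgp⟩ := dodecad_out hD d0_mem hp (p' := none) (by decide +kernel)
  have hmem : ∀ i, g.symm i ∈ D ↔ i ∈ fin d0 := by
    intro i
    rw [← hgO, ← Finset.inv_smul_mem_iff]
    rfl
  have hpt : ∀ i, g.symm i = p ↔ i = none := by
    intro i
    rw [Equiv.symm_apply_eq, hgp]
  refine finish (P := fun i => if i = p then 4 else if i ∈ D then 2 else 0) (fun i => ?_) hg
    chk5 sym5 none getD5 (fun i => ?_) (d0 + 2 ^ 23) d0 (by decide +kernel) (by decide +kernel) (by decide +kernel)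
  · by_cases hi : i = p
    · simp only [if_pos hi]; rw [hi]; exact hvp
    · simp only [if_neg hi]
      by_cases hi' : i ∈ D
      · simp only [if_pos hi']; exact h2 i hi'
      · simp only [if_neg hi']; left; exact h0 i hi' hi
  · have h3 : ∀ i, vec R5 i = if i = none then 4 else if i = some 0 then -2 else if i ∈ fin d0 then 2 else 0 := by
      decide +kernel
    rw [h3 i]
    by_cases hi : i = none
    · left
      rw [if_pos hi, if_pos ((hpt i).2 hi)]
    · rw [if_neg hi, if_neg (fun h => hi ((hpt i).1 h))]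
      by_cases hi1 : i = some 0
      · right
        have h5 : i ∈ fin d0 := by rw [hi1]; decide +kernel
        rw [if_pos hi1, if_pos ((hmem i).2 h5)]
      · left
        rw [if_neg hi1]
        by_cases hi' : i ∈ fin d0
        · rw [if_pos hi', if_pos ((hmem i).2 hi')]
        · rw [if_neg hi', if_neg (fun h => hi' ((hmem i).1 h))]

/-- `(5, (-3)^2, 1^21)` -/
theorem good_odd {v : leechLattice} {p q r : GolayPt} (hpq : p ≠ q) (hpr : p ≠ r) (hqr : q ≠ r)
    (hp : (v : GolayPt → ℤ) p = 5) (hq : (v : GolayPt → ℤ) q = -3) (hr : (v : GolayPt → ℤ) r = -3)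
    (h1 : ∀ i, i ≠ p → i ≠ q → i ≠ r → (v : GolayPt → ℤ) i = 1) : Good v := by
  obtain ⟨g, hg, hgp, hgq, hgr⟩ := three_map hpq hpr hqr (p' := none) (q' := some 0) (r' := some 1) (by decide +kernel)
    (by decide +kernel) (by decide +kernel)
  obtain ⟨t, ht, htR⟩ := exists_invol chk6 sym6
  apply Good.of_smul (fixes_perm ⟨g, hg⟩)
  apply Good.of_eq ht (j := some 1)
  apply Subtype.ext
  funext i
  rw [htR (some 1) _ (e8_coe (some 1)), show A6.getD (pos (some 1)) 0 = R6 from getD6]
  have h3 : ∀ i, vec R6 i = if i = none then 5 else if i = some 0 then -3 else if i = some 1 then -3 else 1 := by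
    decide +kernel
  rw [permCo0_smul, permMap_apply, h3 i]
  show (v : GolayPt → ℤ) (g.symm i) = _
  by_cases hi : i = none
  · rw [if_pos hi, hi, show g.symm none = p by rw [Equiv.symm_apply_eq, hgp], hp]
  · rw [if_neg hi]
    by_cases hi1 : i = some 0
    · rw [if_pos hi1, hi1, show g.symm (some 0) = q by rw [Equiv.symm_apply_eq, hgq], hq]
    · rw [if_neg hi1]
      by_cases hi2 : i = some 1
      · rw [if_pos hi2, hi2, show g.symm (some 1) = r by rw [Equiv.symm_apply_eq, hgr], hr]
      · rw [if_neg hi2]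
        apply h1
        · rw [Ne, Equiv.symm_apply_eq, hgp]; exact hi
        · rw [Ne, Equiv.symm_apply_eq, hgq]; exact hi1
        · rw [Ne, Equiv.symm_apply_eq, hgr]; exact hi2

end Cfsg.Agent.H995.Co1F
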