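import Cfsg.Agent.H995.Co1F.DataB
import Cfsg.Agent.H995.Co1F.Mono
import Cfsg.Agent.LeechMat.Code
import Cfsg.Agent.SporadicA.Co1Simple

/-!
# Every monomial element of `Co0` is a product of three elements with central square
-/

set_option autoImplicit false

namespace Cfsg.Agent.H995.Co1F

open Cfsg
open Cfsg.Agent.SporadicA.Co0Mono
open Cfsg.Agent.SporadicA.GolayBase (isCode idx word word_apply basisMask)
open Cfsg.Agent.SporadicA.GolayPerm (papp pimg pcomp permOf permOf_apply testBit_pimg_papp idx_permOf)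
open Cfsg.Agent.SporadicStructure.M24El

/-- `x` squares into the centre -/
def Sq (x : Co0) : Prop := x * x ∈ Subgroup.center Co0

theorem Sq.conj {x : Co0} (h : Sq x) (u : Co0) : Sq (u * x * u⁻¹) := by
  unfold Sq at *
  have : u * x * u⁻¹ * (u * x * u⁻¹) = u * (x * x) * u⁻¹ := by group
  rw [this]
  have h2 : (Subgroup.center Co0).Normal := inferInstance
  exact h2.conj_mem _ h u

theorem Sq.of_one {x : Co0} (h : x * x = 1) : Sq x := by
  unfold Sq
  rw [h]
  exact Subgroup.one_mem _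

theorem sq_sign_perm {e : golayCode} {σ : M24} (hσ : σ * σ = 1)
    (he : (e : GolayPt → ZMod 2) + (wordPerm σ e : GolayPt → ZMod 2) = 0 ∨
      (e : GolayPt → ZMod 2) + (wordPerm σ e : GolayPt → ZMod 2) = 1) : Sq (signCo0 e * permCo0 σ) := by
  have h1 : signCo0 e * permCo0 σ * (signCo0 e * permCo0 σ) = signCo0 (e + wordPerm σ e) := by
    have h2 : permCo0 σ * signCo0 e * (permCo0 σ)⁻¹ = signCo0 (wordPerm σ e) := perm_mul_sign_mul_inv σ e
    have h3 : permCo0 σ * permCo0 σ = 1 := by rw [← map_mul, hσ, map_one]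
    have h4 : (permCo0 σ)⁻¹ = permCo0 σ := inv_eq_of_mul_eq_one_left h3
    rw [h4] at h2
    rw [signCo0_add, ← h2]
    group
  unfold Sq
  rw [h1]
  rcases he with he | he
  · have : e + wordPerm σ e = 0 := Subtype.ext he
    rw [this, signCo0_zero]
    exact Subgroup.one_mem _
  · have : e + wordPerm σ e = Cfsg.Agent.SporadicA.Co1Simple.allOne := Subtype.ext he
    rw [this]
    exact Cfsg.Agent.SporadicA.Co1Simple.allOne_mem_center

/-! ### the checks -/

/-- `e` is a code word with `e + a(e) ∈ {0, 1}` -/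
def inK (a e : ℕ) : Bool := isCode e && (Nat.beq (e ^^^ pimg a e) 0 || Nat.beq (e ^^^ pimg a e) 16777215)

/-- the check of a record -/
def chkT (q : TRec) : Bool :=
  ok q.c && ok q.a && ok q.b && ok q.d && Nat.beq (pcomp q.a q.a) idP && Nat.beq (pcomp q.b q.b) idP &&
    Nat.beq (pcomp q.d q.d) idP && Nat.beq (pcomp (pcomp q.a q.b) q.d) q.c &&
    (List.range 12).all fun k =>
      inK q.a (q.e.getD k (0, 0, 0)).1 && inK q.b (q.e.getD k (0, 0, 0)).2.1 && inK q.d (q.e.getD k (0, 0, 0)).2.2 &&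
        Nat.beq ((q.e.getD k (0, 0, 0)).1 ^^^ pimg q.a (q.e.getD k (0, 0, 0)).2.1 ^^^
          pimg (pcomp q.a q.b) (q.e.getD k (0, 0, 0)).2.2) (basisMask k)

theorem word_mem {m : ℕ} (h : isCode m = true) : word m ∈ golayCode := by
  have h1 := Cfsg.Agent.SporadicA.GolayBase.isCode_iff.1 h
  rw [← h1]
  exact Cfsg.Agent.SporadicA.GolayBase.enc_mem m

theorem act_word {P : ℕ} (h : ok P = true) (m : ℕ) :
    word m ∘ ((el P : M24) : Equiv.Perm GolayPt).symm = word (pimg P m) := by
  funext p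
  obtain ⟨q, rfl⟩ := ((el P : M24) : Equiv.Perm GolayPt).surjective p
  rw [Function.comp_apply, Equiv.symm_apply_apply, word_apply, word_apply]
  have h1 := idx_el_smul h q
  have h2 : idx (((el P : M24) : Equiv.Perm GolayPt) q) = papp P (idx q) := h1
  rw [h2, testBit_pimg_papp (ok_iff.1 h).1 m (Cfsg.Agent.SporadicA.GolayBase.idx_lt q)]

/-- the words `e` with `e + σ e ∈ {0, 1}` -/
def Kof (σ : M24) : AddSubgroup golayCode where
  carrier := {e | (e : GolayPt → ZMod 2) + (wordPerm σ e : GolayPt → ZMod 2) = 0 ∨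
      (e : GolayPt → ZMod 2) + (wordPerm σ e : GolayPt → ZMod 2) = 1}
  zero_mem' := by
    left
    funext i
    show (0 : ZMod 2) + 0 = 0
    rfl
  add_mem' := by
    intro e f he hf
    have h1 : ((e + f : golayCode) : GolayPt → ZMod 2) + (wordPerm σ (e + f) : GolayPt → ZMod 2) =
        ((e : GolayPt → ZMod 2) + (wordPerm σ e : GolayPt → ZMod 2)) +
        ((f : GolayPt → ZMod 2) + (wordPerm σ f : GolayPt → ZMod 2)) := by
      funext i
      show (e : GolayPt → ZMod 2) i + (f : GolayPt → ZMod 2) i + ((e : GolayPt → ZMod 2) _ + (f : GolayPt → ZMod 2) _) =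
        (e : GolayPt → ZMod 2) i + (e : GolayPt → ZMod 2) _ + ((f : GolayPt → ZMod 2) i + (f : GolayPt → ZMod 2) _)
      ring
    show _ = _ ∨ _ = _
    rw [h1]
    have h2 : (1 : GolayPt → ZMod 2) + 1 = 0 := by
      funext i
      show (1 : ZMod 2) + 1 = 0
      decide
    rcases he with he | he <;> rcases hf with hf | hf <;> rw [he, hf]
    · left; exact add_zero _
    · right; exact zero_add _
    · right; exact add_zero _
    · left; exact h2
  neg_mem' := by
    intro e he
    have h1 : -e = e := by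
      apply Subtype.ext
      funext i
      show -(e : GolayPt → ZMod 2) i = (e : GolayPt → ZMod 2) i
      have : ∀ a : ZMod 2, -a = a := by decide
      exact this _
    rw [h1]
    exact he

theorem mem_Kof {P e : ℕ} (hP : ok P = true) (h : inK P e = true) :
    ∃ w : golayCode, w ∈ Kof (el P) ∧ (w : GolayPt → ZMod 2) = word e := by
  unfold inK at h
  rw [Bool.and_eq_true, Bool.or_eq_true] at h
  refine ⟨⟨word e, word_mem h.1⟩, ?_, rfl⟩
  have h1 : (word e : GolayPt → ZMod 2) + (word e ∘ ((el P : M24) : Equiv.Perm GolayPt).symm) = word (e ^^^ pimg P e) := by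
    rw [act_word hP, Cfsg.Agent.SporadicA.GolayBase.word_xor]
  show _ = _ ∨ _ = _
  rcases h.2 with h2 | h2
  · left
    refine h1.trans ?_
    rw [Nat.eq_of_beq_eq_true h2, Cfsg.Agent.SporadicA.GolayBase.word_zero]
  · right
    refine h1.trans ?_
    rw [Nat.eq_of_beq_eq_true h2, Cfsg.Agent.SporadicA.GolayBase.word_all]

/-- the sum of the three subgroups -/
def Ssum (a b d : M24) : AddSubgroup (GolayPt → ZMod 2) where
  carrier := {w | ∃ x y z : golayCode, x ∈ Kof a ∧ y ∈ Kof b ∧ z ∈ Kof d ∧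
    w = (x : GolayPt → ZMod 2) + (wordPerm a y : GolayPt → ZMod 2) + (wordPerm (a * b) z : GolayPt → ZMod 2)}
  zero_mem' := ⟨0, 0, 0, zero_mem _, zero_mem _, zero_mem _, by
    funext i
    show (0 : ZMod 2) = 0 + 0 + 0
    rfl⟩
  add_mem' := by
    rintro _ _ ⟨x, y, z, hx, hy, hz, rfl⟩ ⟨x', y', z', hx', hy', hz', rfl⟩
    refine ⟨x + x', y + y', z + z', add_mem hx hx', add_mem hy hy', add_mem hz hz', ?_⟩
    funext i
    show (x : GolayPt → ZMod 2) i + (y : GolayPt → ZMod 2) _ + (z : GolayPt → ZMod 2) _ +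
      ((x' : GolayPt → ZMod 2) i + (y' : GolayPt → ZMod 2) _ + (z' : GolayPt → ZMod 2) _) =
      (x : GolayPt → ZMod 2) i + (x' : GolayPt → ZMod 2) i + ((y : GolayPt → ZMod 2) _ + (y' : GolayPt → ZMod 2) _) +
      ((z : GolayPt → ZMod 2) _ + (z' : GolayPt → ZMod 2) _)
    ring
  neg_mem' := by
    intro w hw
    have h1 : -w = w := by
      funext i
      have : ∀ a : ZMod 2, -a = a := by decide
      exact this _
    rw [h1]
    exact hw

theorem le_Ssum {S : AddSubgroup (GolayPt → ZMod 2)} (h : ∀ k < 12, word (basisMask k) ∈ S) {w : GolayPt → ZMod 2}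
    (hw : w ∈ golayCode) : w ∈ S := by
  obtain ⟨c, -, rfl⟩ := (Cfsg.Agent.LeechMat.Code.mem_golayCode_iff w).1 hw
  have hword : ∀ m, Cfsg.Agent.LeechMat.Code.word m = word m := by
    intro m
    funext p
    rcases p with _ | p <;> rfl
  have hb : ∀ b ∈ Cfsg.Agent.LeechMat.Code.basis, word b ∈ S := by
    intro b hb
    have h1 : ∀ b ∈ Cfsg.Agent.LeechMat.Code.basis, ∃ k < 12, basisMask k = b := by decide +kernel
    obtain ⟨k, hk, rfl⟩ := h1 b hb
    exact h k hk
  rw [hword]
  have key : ∀ (l : List ℕ), (∀ b ∈ l, word b ∈ S) → ∀ c, word (Cfsg.Agent.LeechMat.Code.encAux l c) ∈ S := by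
    intro l
    induction l with
    | nil =>
      intro _ c
      show word 0 ∈ S
      rw [Cfsg.Agent.SporadicA.GolayBase.word_zero]
      exact S.zero_mem
    | cons x l ih =>
      intro hl c
      show word ((if c.testBit 0 then x else 0) ^^^ Cfsg.Agent.LeechMat.Code.encAux l (c >>> 1)) ∈ S
      rw [Cfsg.Agent.SporadicA.GolayBase.word_xor]
      refine S.add_mem ?_ (ih (fun b hb => hl b (List.mem_cons_of_mem _ hb)) _)
      split
      · exact hl x List.mem_cons_self
      · rw [Cfsg.Agent.SporadicA.GolayBase.word_zero]; exact S.zero_mem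
  exact key _ hb c

/-- **The elements over a checked class are products of three elements with central square.** -/
theorem triple_of_chk {q : TRec} (h : chkT q = true) (e : golayCode) :
    ∃ x y z : Co0, Sq x ∧ Sq y ∧ Sq z ∧ signCo0 e * permCo0 (el q.c) = x * y * z := by
  unfold chkT at h
  simp only [Bool.and_eq_true] at h
  obtain ⟨⟨⟨⟨⟨⟨⟨⟨hc, ha⟩, hb⟩, hd⟩, haa⟩, hbb⟩, hdd⟩, hprod⟩, hall⟩ := h
  have hab := ok_pcomp ha hb
  have ea : el q.a * el q.a = 1 := by rw [← el_pcomp ha ha, Nat.eq_of_beq_eq_true haa, el_idP]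
  have eb : el q.b * el q.b = 1 := by rw [← el_pcomp hb hb, Nat.eq_of_beq_eq_true hbb, el_idP]
  have ed : el q.d * el q.d = 1 := by rw [← el_pcomp hd hd, Nat.eq_of_beq_eq_true hdd, el_idP]
  have ec : el q.c = el q.a * el q.b * el q.d := by
    rw [← el_pcomp ha hb, ← el_pcomp hab hd, Nat.eq_of_beq_eq_true hprod]
  have hS : ∀ k < 12, word (basisMask k) ∈ Ssum (el q.a) (el q.b) (el q.d) := by
    intro k hk
    have h1 := List.all_eq_true.1 hall k (List.mem_range.2 hk)
    simp only [Bool.and_eq_true] at h1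
    obtain ⟨⟨⟨h1, h2⟩, h3⟩, h4⟩ := h1
    obtain ⟨x, hx, hx'⟩ := mem_Kof ha h1
    obtain ⟨y, hy, hy'⟩ := mem_Kof hb h2
    obtain ⟨z, hz, hz'⟩ := mem_Kof hd h3
    refine ⟨x, y, z, hx, hy, hz, ?_⟩
    have hy'' : (wordPerm (el q.a) y : GolayPt → ZMod 2) = word (pimg q.a (q.e.getD k (0, 0, 0)).2.1) := by
      rw [← act_word ha, ← hy']; rfl
    have hz'' : (wordPerm (el q.a * el q.b) z : GolayPt → ZMod 2) =
        word (pimg (pcomp q.a q.b) (q.e.getD k (0, 0, 0)).2.2) := by
      rw [← act_word hab, ← hz', el_pcomp ha hb]; rfl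
    rw [← Nat.eq_of_beq_eq_true h4, Cfsg.Agent.SporadicA.GolayBase.word_xor,
      Cfsg.Agent.SporadicA.GolayBase.word_xor, hx', hy'', hz'']
  obtain ⟨x, y, z, hx, hy, hz, hxyz⟩ := le_Ssum hS e.2
  refine ⟨signCo0 x * permCo0 (el q.a), signCo0 y * permCo0 (el q.b), signCo0 z * permCo0 (el q.d),
    sq_sign_perm ea hx, sq_sign_perm eb hy, sq_sign_perm ed hz, ?_⟩
  have he : e = x + wordPerm (el q.a) y + wordPerm (el q.a * el q.b) z := Subtype.ext hxyz
  have h1 : permCo0 (el q.a) * signCo0 y * (permCo0 (el q.a))⁻¹ = signCo0 (wordPerm (el q.a) y) :=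
    perm_mul_sign_mul_inv _ _
  have h2 : permCo0 (el q.a * el q.b) * signCo0 z * (permCo0 (el q.a * el q.b))⁻¹ =
      signCo0 (wordPerm (el q.a * el q.b) z) := perm_mul_sign_mul_inv _ _
  rw [he, signCo0_add, signCo0_add, ← h1, ← h2, ec]
  simp only [map_mul]
  group

theorem chkTR : TR.all chkT = true := by decide +kernel

theorem TR_cover : (Cfsg.Agent.H334.Ore.M24Data.D.all fun r => TR.any fun q => Nat.beq q.c r.c) = true := by
  decide +kernel

open Cfsg.Agent.MonsterX.FrameStab (FixesFrame)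

/-- **Every monomial element is a product of three elements with central square.** -/
theorem triple {h : Co0} (hh : FixesFrame h) : ∃ x y z : Co0, Sq x ∧ Sq y ∧ Sq z ∧ h = x * y * z := by
  obtain ⟨c, σ, rfl⟩ := frame_form hh
  rcases Cfsg.Agent.H334.Ore.M24R.cov σ with rfl | ⟨r, hr, x, hx, hconj⟩
  · refine ⟨signCo0 c, 1, 1, Sq.of_one (signCo0_mul_self c), Sq.of_one (one_mul 1), Sq.of_one (one_mul 1), ?_⟩
    rw [map_one, mul_one, mul_one]
  · have hx' : x = el r.c := hx
    subst hx'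
    obtain ⟨u, hu⟩ := isConj_iff.1 hconj
    have h1 := List.all_eq_true.1 TR_cover r hr
    obtain ⟨q, hq, hqr⟩ := List.any_eq_true.1 h1
    have h2 := List.all_eq_true.1 chkTR q hq
    obtain ⟨a, b, d, ha, hb, hd, habd⟩ := triple_of_chk h2 (wordPerm u⁻¹ c)
    rw [Nat.eq_of_beq_eq_true hqr] at habd
    refine ⟨permCo0 u * a * (permCo0 u)⁻¹, permCo0 u * b * (permCo0 u)⁻¹, permCo0 u * d * (permCo0 u)⁻¹,
      ha.conj _, hb.conj _, hd.conj _, ?_⟩
    have h3 : permCo0 u * signCo0 (wordPerm u⁻¹ c) * (permCo0 u)⁻¹ = signCo0 c := by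
      rw [perm_mul_sign_mul_inv]
      congr 1
      apply Subtype.ext
      funext i
      show (c : GolayPt → ZMod 2) (((u⁻¹ : M24) : Equiv.Perm GolayPt).symm ((u : Equiv.Perm GolayPt).symm i)) = _
      exact congrArg (c : GolayPt → ZMod 2) (Equiv.apply_symm_apply (u : Equiv.Perm GolayPt) i)
    have h4 : permCo0 σ = permCo0 u * permCo0 (el r.c) * (permCo0 u)⁻¹ := by
      rw [← hu, map_mul, map_mul, map_inv]
    rw [h4, ← h3]
    have h5 : permCo0 u * signCo0 (wordPerm u⁻¹ c) * (permCo0 u)⁻¹ * (permCo0 u * permCo0 (el r.c) * (permCo0 u)⁻¹) =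
        permCo0 u * (signCo0 (wordPerm u⁻¹ c) * permCo0 (el r.c)) * (permCo0 u)⁻¹ := by group
    rw [h5, habd]
    group

end Cfsg.Agent.H995.Co1F
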